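import Cfsg.Agent.Lib.CosetEnum.Fi23Fi22.TabF_Data0
import Cfsg.Agent.Lib.CosetEnum.Fi23Fi22.TabF_Data1
import Cfsg.Agent.Lib.CosetEnum.Fi23Fi22.TabC_Data0
import Cfsg.Agent.Lib.CosetEnum.Fi23Fi22.TabC_Data1
import Cfsg.Agent.Lib.CosetEnum.Fi23Fi22.TabC_Data2
import Cfsg.Agent.Lib.CosetEnum.Fi23Fi22.TabC_Data3
import Cfsg.Agent.Lib.CosetEnum.Fi23Fi22.TabC_Data4
import Cfsg.Agent.Lib.CosetEnum.Fi23Fi22.TabC_Data5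
import Cfsg.Agent.Lib.CosetEnum.Fi23Fi22.TabC_Data6
import Cfsg.Agent.Lib.CosetEnum.Fi23Fi22.TabC_Data7
import Cfsg.Agent.Lib.CosetEnum.Fi23Fi22.TabC_Data8
import Cfsg.Agent.Lib.CosetEnum.Fi23Fi22.TabC_Data9
import Cfsg.Agent.Lib.CosetEnum.Fi23Fi22.TabC_Data10
import Cfsg.Agent.Lib.CosetEnum.Fi23Fi22.TabC_Data11
import Cfsg.Agent.Lib.CosetEnum.Fi23Fi22.TabC_Data12
import Cfsg.Agent.Lib.CosetEnum.Fi23Fi22.TabC_Data13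
import Cfsg.Agent.Lib.CosetEnum.Fi23Fi22.TabC_Data14
import Cfsg.Agent.Lib.CosetEnum.Fi23Fi22.TabC_Data15
import Cfsg.Agent.Lib.CosetEnum.Fi23Fi22.TabC_Data16
import Cfsg.Agent.Lib.CosetEnum.Fi23Fi22.TabC_Data17
import Cfsg.Agent.Lib.CosetEnum.Fi23Fi22.TabC_Data18
import Cfsg.Agent.Lib.CosetEnum.Fi23Fi22.TabC_Data19
import Cfsg.Agent.Lib.CosetEnum.Fi23Fi22.TabC_Data20
import Cfsg.Agent.Lib.CosetEnum.Fi23Fi22.TabC_Data21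
import Cfsg.Agent.Lib.CosetEnum.Fi23Fi22.TabC_Data22
import Cfsg.Agent.Lib.CosetEnum.Fi23Fi22.TabC_Data23
import Cfsg.Agent.Lib.CosetEnum.Fi23Fi22.TabC_Data24
import Cfsg.Agent.Lib.CosetEnum.Fi23Fi22.TabC_Data25
import Cfsg.Agent.Lib.CosetEnum.Fi23Fi22.TabC_Data26
import Cfsg.Agent.Lib.CosetEnum.Fi23Fi22.TabC_Data27
import Cfsg.Agent.Lib.CosetEnum.Fi23Fi22.TabC_Data28
import Cfsg.Agent.Lib.CosetEnum.Fi23Fi22.TabC_Data29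
import Cfsg.Agent.Lib.CosetEnum.Fi23Fi22.TabC_Data30
import Cfsg.Agent.Lib.CosetEnum.Fi23Fi22.TabC_Data31
import Cfsg.Agent.Lib.CosetEnum.Fi23Fi22.TabC_Data32
import Cfsg.Agent.Lib.CosetEnum.Fi23Fi22.TabC_Data33
import Cfsg.Agent.Lib.CosetEnum.Fi23Fi22.TabC_Data34
import Cfsg.Agent.Lib.CosetEnum.Fi23Fi22.TabC_Data35
import Cfsg.Agent.Lib.CosetEnum.Fi23Fi22.TabC_Data36
import Cfsg.Agent.Lib.CosetEnum.Fi23Fi22.TabC_Data37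
import Cfsg.Agent.Lib.CosetEnum.Fi23Fi22.TabC_Data38
import Cfsg.Agent.Lib.CosetEnum.Fi23Fi22.TabC_Data39
import Cfsg.Agent.Lib.CosetEnum.Fi23Fi22.TabC_Data40
import Cfsg.Agent.Lib.CosetEnum.Fi23Fi22.TabC_Data41
import Cfsg.Agent.Lib.CosetEnum.Fi23Fi22.TabC_Data42
import Cfsg.Agent.Lib.CosetEnum.Fi23Fi22.TabC_Data43
import Cfsg.Agent.Lib.CosetEnum.Fi23Fi22.TabC_Data44
import Cfsg.Agent.Lib.CosetEnum.Fi23Fi22.TabC_Data45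
import Cfsg.Agent.Lib.CosetEnum.Fi23Fi22.TabC_Data46
import Cfsg.Agent.Lib.CosetEnum.Fi23Fi22.TabC_Data47
import Cfsg.Agent.Lib.CosetEnum.Fi23Fi22.TabC_Data48
import Cfsg.Agent.Lib.CosetEnum.Fi23Fi22.TabC_Data49
import Cfsg.Agent.Lib.CosetEnum.Fi23Fi22.TabC_Data50
import Cfsg.Agent.Lib.CosetEnum.Fi23Fi22.TabC_Data51
import Cfsg.Agent.Lib.CosetEnum.Fi23Fi22.TabC_Data52
import Cfsg.Agent.Lib.CosetEnum.Fi23Fi22.TabC_Data53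
import Cfsg.Agent.Lib.CosetEnum.Fi23Fi22.TabC_Data54
import Cfsg.Agent.Lib.CosetEnum.Fi23Fi22.TabC_Data55
import Cfsg.Agent.Lib.CosetEnum.Fi23Fi22.TabC_Data56
import Cfsg.Agent.Lib.CosetEnum.Fi23Fi22.TabC_Data57
import Cfsg.Agent.Lib.CosetEnum.Fi23Fi22.TabC_Data58
import Cfsg.Agent.Lib.CosetEnum.Fi23Fi22.TabC_Data59
import Cfsg.Agent.Lib.CosetEnum.Fi23Fi22.TabC_Data60
import Cfsg.Agent.Lib.CosetEnum.Fi23Fi22.TabC_Data61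
import Cfsg.Agent.Lib.CosetEnum.Fi23Fi22.TabC_Data62
import Cfsg.Agent.Lib.CosetEnum.Fi23Fi22.TabC_Data63
import Cfsg.Agent.Lib.CosetEnum.Fi23Fi22.TabC_Data64
import Cfsg.Agent.Lib.CosetEnum.Fi23Fi22.TabC_Data65
import Cfsg.Agent.Lib.CosetEnum.Fi23Fi22.TabC_Data66
import Cfsg.Agent.Lib.CosetEnum.Fi23Fi22.TabC_Data67
import Cfsg.Agent.Lib.CosetEnum.Fi23Fi22.TabC_Data68
import Cfsg.Agent.Lib.CosetEnum.Fi23Fi22.TabC_Data69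
import Cfsg.Agent.Lib.CosetEnum.Fi23Fi22.TabC_Data70
import Cfsg.Agent.Lib.CosetEnum.Fi23Fi22.TabC_Data71
import Cfsg.Agent.Lib.CosetEnum.Fi23Fi22.TabZ_Data0
import Cfsg.Agent.Lib.CosetEnum.Fi23Fi22.TabZ_Data1
import Cfsg.Agent.Lib.CosetEnum.Fi23Fi22.TabZ_Data2
import Cfsg.Agent.Lib.CosetEnum.Fi23Fi22.TabP_Data0
import Cfsg.Agent.Lib.CosetEnum.Fi23Fi22.TabP_Data1
import Cfsg.Agent.Lib.CosetEnum.Fi23Fi22.TabP_Data2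
import Cfsg.Agent.Lib.CosetEnum.Fi23Fi22.Orb0_Data0
import Cfsg.Agent.Lib.CosetEnum.Fi23Fi22.Pos0_Data0
import Cfsg.Agent.Lib.CosetEnum.Fi23Fi22.Orb1_Data0
import Cfsg.Agent.Lib.CosetEnum.Fi23Fi22.Pos1_Data0

/-! Generated certificate. -/

set_option autoImplicit false
set_option maxRecDepth 20000

namespace Cfsg.Lib.CosetEnum.Fi23Fi22

/-- Table. -/
def tabF : Tab :=
  (.node 2048 tabF_0 tabF_1)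

/-- Table. -/
def tabC : Tab :=
  (.node 73728 (.node 36864 (.node 18432 (.node 8192 (.node 4096 (.node 2048 tabC_0 tabC_1) (.node 2048 tabC_2 tabC_3)) (.node 4096 (.node 2048 tabC_4 tabC_5) (.node 2048 tabC_6 (.node 2048 tabC_7 tabC_8)))) (.node 8192 (.node 4096 (.node 2048 tabC_9 tabC_10) (.node 2048 tabC_11 tabC_12)) (.node 4096 (.node 2048 tabC_13 tabC_14) (.node 2048 tabC_15 (.node 2048 tabC_16 tabC_17))))) (.node 18432 (.node 8192 (.node 4096 (.node 2048 tabC_18 tabC_19) (.node 2048 tabC_20 tabC_21)) (.node 4096 (.node 2048 tabC_22 tabC_23) (.node 2048 tabC_24 (.node 2048 tabC_25 tabC_26)))) (.node 8192 (.node 4096 (.node 2048 tabC_27 tabC_28) (.node 2048 tabC_29 tabC_30)) (.node 4096 (.node 2048 tabC_31 tabC_32) (.node 2048 tabC_33 (.node 2048 tabC_34 tabC_35)))))) (.node 36864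 (.node 18432 (.node 8192 (.node 4096 (.node 2048 tabC_36 tabC_37) (.node 2048 tabC_38 tabC_39)) (.node 4096 (.node 2048 tabC_40 tabC_41) (.node 2048 tabC_42 (.node 2048 tabC_43 tabC_44)))) (.node 8192 (.node 4096 (.node 2048 tabC_45 tabC_46) (.node 2048 tabC_47 tabC_48)) (.node 4096 (.node 2048 tabC_49 tabC_50) (.node 2048 tabC_51 (.node 2048 tabC_52 tabC_53))))) (.node 18432 (.node 8192 (.node 4096 (.node 2048 tabC_54 tabC_55) (.node 2048 tabC_56 tabC_57)) (.node 4096 (.node 2048 tabC_58 tabC_59) (.node 2048 tabC_60 (.node 2048 tabC_61 tabC_62)))) (.node 8192 (.node 4096 (.node 2048 tabC_63 tabC_64) (.node 2048 tabC_65 tabC_66)) (.node 4096 (.node 2048 tabC_67 tabC_68) (.node 2048 tabC_69 (.node 2048 tabC_70 tabC_71)))))))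

/-- Table. -/
def tabZ : Tab :=
  (.node 2048 tabZ_0 (.node 2048 tabZ_1 tabZ_2))

/-- Table. -/
def tabP : Tab :=
  (.node 2048 tabP_0 (.node 2048 tabP_1 tabP_2))

/-- Table. -/
def orb0 : Tab :=
  orb0_0

/-- Table. -/
def pos0 : Tab :=
  pos0_0

/-- Table. -/
def orb1 : Tab :=
  orb1_0

/-- Table. -/
def pos1 : Tab :=
  pos1_0

/-- The shifts in use. -/
def relWords : List (List Nat) :=
  [[0, 0],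
    [1, 1],
    [2, 2],
    [3, 3],
    [4, 4],
    [5, 5],
    [6, 6],
    [7, 7],
    [8, 8],
    [9, 9],
    [0, 1, 0, 1, 0, 1],
    [0, 2, 0, 2],
    [0, 3, 0, 3],
    [0, 4, 0, 4],
    [0, 5, 0, 5],
    [0, 6, 0, 6],
    [0, 7, 0, 7],
    [0, 8, 0, 8],
    [0, 9, 0, 9],
    [1, 2, 1, 2, 1, 2],
    [1, 3, 1, 3],
    [1, 4, 1, 4],
    [1, 5, 1, 5],
    [1, 6, 1, 6],
    [1, 7, 1, 7],
    [1, 8, 1, 8],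
    [1, 9, 1, 9],
    [2, 3, 2, 3, 2, 3],
    [2, 4, 2, 4],
    [2, 5, 2, 5],
    [2, 6, 2, 6],
    [2, 7, 2, 7],
    [2, 8, 2, 8],
    [2, 9, 2, 9],
    [3, 4, 3, 4, 3, 4],
    [3, 5, 3, 5],
    [3, 6, 3, 6],
    [3, 7, 3, 7],
    [3, 8, 3, 8, 3, 8],
    [3, 9, 3, 9],
    [4, 5, 4, 5, 4, 5],
    [4, 6, 4, 6],
    [4, 7, 4, 7],
    [4, 8, 4, 8],
    [4, 9, 4, 9],
    [5, 6, 5, 6, 5, 6],
    [5, 7, 5, 7],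
    [5, 8, 5, 8],
    [5, 9, 5, 9],
    [6, 7, 6, 7, 6, 7],
    [6, 8, 6, 8],
    [6, 9, 6, 9],
    [7, 8, 7, 8],
    [7, 9, 7, 9],
    [8, 9, 8, 9, 8, 9],
    [3, 2, 1, 3, 4, 5, 3, 8, 9, 3, 2, 1, 3, 4, 5, 3, 8, 9, 3, 2, 1, 3, 4, 5, 3, 8, 9, 3, 2, 1, 3, 4, 5, 3, 8, 9, 3, 2, 1, 3, 4, 5, 3, 8, 9, 3, 2, 1, 3, 4, 5, 3, 8, 9, 3, 2, 1, 3, 4, 5, 3, 8, 9, 3, 2, 1, 3, 4, 5, 3, 8, 9, 3, 2, 1, 3, 4, 5, 3, 8, 9, 3, 2, 1, 3, 4, 5, 3, 8, 9],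
    [0, 1, 2, 3, 4, 5, 8, 0, 1, 2, 3, 4, 5, 8, 0, 1, 2, 3, 4, 5, 8, 0, 1, 2, 3, 4, 5, 8, 0, 1, 2, 3, 4, 5, 8, 0, 1, 2, 3, 4, 5, 8, 0, 1, 2, 3, 4, 5, 8, 0, 1, 2, 3, 4, 5, 8, 0, 1, 2, 3, 4, 5, 8],
    [8, 6, 8, 6],
    [9, 6, 9, 6],
    [8, 4, 8, 4],
    [9, 4, 9, 4],
    [2, 1, 2, 1, 2, 1],
    [2, 0, 2, 0],
    [3, 1, 3, 1],
    [3, 0, 3, 0],
    [8, 5, 8, 5],
    [4, 3, 4, 3, 4, 3],
    [5, 3, 5, 3],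
    [5, 0, 5, 0],
    [5, 1, 5, 1],
    [5, 2, 5, 2],
    [5, 4, 5, 4, 5, 4],
    [4, 0, 4, 0],
    [4, 1, 4, 1],
    [4, 2, 4, 2],
    [8, 3, 8, 3, 8, 3],
    [8, 2, 8, 2],
    [8, 1, 8, 1],
    [8, 0, 8, 0],
    [3, 2, 3, 2, 3, 2],
    [1, 0, 1, 0, 1, 0],
    [9, 2, 9, 2],
    [9, 8, 9, 8, 9, 8],
    [9, 1, 9, 1],
    [9, 0, 9, 0],
    [9, 3, 9, 3],
    [9, 5, 9, 5]]

/-- Subgroup words. -/
def subWords : List (List Nat) :=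
  [[0],
    [1],
    [2],
    [3],
    [4],
    [5],
    [6],
    [8],
    [9]]

/-- The certificate. -/
def step : StepCert :=
  ⟨relWords, subWords, [0, 1, 2, 3, 4, 5, 6, 7, 8, 9], tabF, tabC, tabZ, tabP, 34432, 146283, 31671, 10⟩

/-- All relator words. -/
def baseWords : List (List Nat) :=
  [[0, 0],
    [1, 0, 1, 0, 1, 0],
    [2, 0, 2, 0],
    [3, 0, 3, 0],
    [4, 0, 4, 0],
    [5, 0, 5, 0],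
    [6, 0, 6, 0],
    [7, 0, 7, 0],
    [8, 0, 8, 0],
    [9, 0, 9, 0],
    [0, 1, 0, 1, 0, 1],
    [1, 1],
    [2, 1, 2, 1, 2, 1],
    [3, 1, 3, 1],
    [4, 1, 4, 1],
    [5, 1, 5, 1],
    [6, 1, 6, 1],
    [7, 1, 7, 1],
    [8, 1, 8, 1],
    [9, 1, 9, 1],
    [0, 2, 0, 2],
    [1, 2, 1, 2, 1, 2],
    [2, 2],
    [3, 2, 3, 2, 3, 2],
    [4, 2, 4, 2],
    [5, 2, 5, 2],
    [6, 2, 6, 2],
    [7, 2, 7, 2],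
    [8, 2, 8, 2],
    [9, 2, 9, 2],
    [0, 3, 0, 3],
    [1, 3, 1, 3],
    [2, 3, 2, 3, 2, 3],
    [3, 3],
    [4, 3, 4, 3, 4, 3],
    [5, 3, 5, 3],
    [6, 3, 6, 3],
    [7, 3, 7, 3],
    [8, 3, 8, 3, 8, 3],
    [9, 3, 9, 3],
    [0, 4, 0, 4],
    [1, 4, 1, 4],
    [2, 4, 2, 4],
    [3, 4, 3, 4, 3, 4],
    [4, 4],
    [5, 4, 5, 4, 5, 4],
    [6, 4, 6, 4],
    [7, 4, 7, 4],
    [8, 4, 8, 4],
    [9, 4, 9, 4],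
    [0, 5, 0, 5],
    [1, 5, 1, 5],
    [2, 5, 2, 5],
    [3, 5, 3, 5],
    [4, 5, 4, 5, 4, 5],
    [5, 5],
    [6, 5, 6, 5, 6, 5],
    [7, 5, 7, 5],
    [8, 5, 8, 5],
    [9, 5, 9, 5],
    [0, 6, 0, 6],
    [1, 6, 1, 6],
    [2, 6, 2, 6],
    [3, 6, 3, 6],
    [4, 6, 4, 6],
    [5, 6, 5, 6, 5, 6],
    [6, 6],
    [7, 6, 7, 6, 7, 6],
    [8, 6, 8, 6],
    [9, 6, 9, 6],
    [0, 7, 0, 7],
    [1, 7, 1, 7],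
    [2, 7, 2, 7],
    [3, 7, 3, 7],
    [4, 7, 4, 7],
    [5, 7, 5, 7],
    [6, 7, 6, 7, 6, 7],
    [7, 7],
    [8, 7, 8, 7],
    [9, 7, 9, 7],
    [0, 8, 0, 8],
    [1, 8, 1, 8],
    [2, 8, 2, 8],
    [3, 8, 3, 8, 3, 8],
    [4, 8, 4, 8],
    [5, 8, 5, 8],
    [6, 8, 6, 8],
    [7, 8, 7, 8],
    [8, 8],
    [9, 8, 9, 8, 9, 8],
    [0, 9, 0, 9],
    [1, 9, 1, 9],
    [2, 9, 2, 9],
    [3, 9, 3, 9],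
    [4, 9, 4, 9],
    [5, 9, 5, 9],
    [6, 9, 6, 9],
    [7, 9, 7, 9],
    [8, 9, 8, 9, 8, 9],
    [9, 9],
    [9, 8, 3, 5, 4, 3, 1, 2, 3, 9, 8, 3, 5, 4, 3, 1, 2, 3, 9, 8, 3, 5, 4, 3, 1, 2, 3, 9, 8, 3, 5, 4, 3, 1, 2, 3, 9, 8, 3, 5, 4, 3, 1, 2, 3, 9, 8, 3, 5, 4, 3, 1, 2, 3, 9, 8, 3, 5, 4, 3, 1, 2, 3, 9, 8, 3, 5, 4, 3, 1, 2, 3, 9, 8, 3, 5, 4, 3, 1, 2, 3, 9, 8, 3, 5, 4, 3, 1, 2, 3],
    [8, 5, 4, 3, 2, 1, 0, 8, 5, 4, 3, 2, 1, 0, 8, 5, 4, 3, 2, 1, 0, 8, 5, 4, 3, 2, 1, 0, 8, 5, 4, 3, 2, 1, 0, 8, 5, 4, 3, 2, 1, 0, 8, 5, 4, 3, 2, 1, 0, 8, 5, 4, 3, 2, 1, 0, 8, 5, 4, 3, 2, 1, 0]]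

/-- Relator words checked on the table. -/
def halfWords : List (List Nat) :=
  [[0, 0],
    [1, 0, 1, 0, 1, 0],
    [2, 0, 2, 0],
    [3, 0, 3, 0],
    [4, 0, 4, 0],
    [5, 0, 5, 0],
    [6, 0, 6, 0],
    [7, 0, 7, 0],
    [8, 0, 8, 0],
    [9, 0, 9, 0],
    [1, 1],
    [2, 1, 2, 1, 2, 1],
    [3, 1, 3, 1],
    [4, 1, 4, 1],
    [5, 1, 5, 1],
    [6, 1, 6, 1],
    [7, 1, 7, 1],
    [8, 1, 8, 1],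
    [9, 1, 9, 1],
    [2, 2],
    [3, 2, 3, 2, 3, 2],
    [4, 2, 4, 2],
    [5, 2, 5, 2],
    [6, 2, 6, 2],
    [7, 2, 7, 2],
    [8, 2, 8, 2],
    [9, 2, 9, 2],
    [3, 3],
    [4, 3, 4, 3, 4, 3],
    [5, 3, 5, 3],
    [6, 3, 6, 3],
    [7, 3, 7, 3],
    [8, 3, 8, 3, 8, 3],
    [9, 3, 9, 3],
    [4, 4],
    [5, 4, 5, 4, 5, 4],
    [6, 4, 6, 4],
    [7, 4, 7, 4],
    [8, 4, 8, 4],
    [9, 4, 9, 4],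
    [5, 5],
    [6, 5, 6, 5, 6, 5],
    [7, 5, 7, 5],
    [8, 5, 8, 5],
    [9, 5, 9, 5],
    [6, 6],
    [7, 6, 7, 6, 7, 6],
    [8, 6, 8, 6],
    [9, 6, 9, 6],
    [7, 7],
    [8, 7, 8, 7],
    [9, 7, 9, 7],
    [8, 8],
    [9, 8, 9, 8, 9, 8],
    [9, 9],
    [9, 8, 3, 5, 4, 3, 1, 2, 3, 9, 8, 3, 5, 4, 3, 1, 2, 3, 9, 8, 3, 5, 4, 3, 1, 2, 3, 9, 8, 3, 5, 4, 3, 1, 2, 3, 9, 8, 3, 5, 4, 3, 1, 2, 3, 9, 8, 3, 5, 4, 3, 1, 2, 3, 9, 8, 3, 5, 4, 3, 1, 2, 3, 9, 8, 3, 5, 4, 3, 1, 2, 3, 9, 8, 3, 5, 4, 3, 1, 2, 3, 9, 8, 3, 5, 4, 3, 1, 2, 3],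
    [8, 5, 4, 3, 2, 1, 0, 8, 5, 4, 3, 2, 1, 0, 8, 5, 4, 3, 2, 1, 0, 8, 5, 4, 3, 2, 1, 0, 8, 5, 4, 3, 2, 1, 0, 8, 5, 4, 3, 2, 1, 0, 8, 5, 4, 3, 2, 1, 0, 8, 5, 4, 3, 2, 1, 0, 8, 5, 4, 3, 2, 1, 0]]

/-- The certificate. -/
def cert : IndexCert :=
  ⟨baseWords, halfWords, step⟩

end Cfsg.Lib.CosetEnum.Fi23Fi22
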