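import Cfsg.Agent.Lib.CosetEnum.Fi23Fi22.Data

/-! Generated certificate. -/

set_option autoImplicit false
set_option maxRecDepth 20000

namespace Cfsg.Lib.CosetEnum.Fi23Fi22

theorem perm_72 : permOK tabP 10 31671 halfWords 300 21600 = true := by decide +kernel

theorem perm_73 : permOK tabP 10 31671 halfWords 300 21900 = true := by decide +kernel

theorem perm_74 : permOK tabP 10 31671 halfWords 300 22200 = true := by decide +kernel

theorem perm_75 : permOK tabP 10 31671 halfWords 300 22500 = true := by decide +kernel

theorem perm_76 : permOK tabP 10 31671 halfWords 300 22800 = true := by decide +kernel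

theorem perm_77 : permOK tabP 10 31671 halfWords 300 23100 = true := by decide +kernel

end Cfsg.Lib.CosetEnum.Fi23Fi22
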