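import Cfsg.Agent.Lib.CosetEnum.Fi23Fi22.Data

/-! Generated certificate. -/

set_option autoImplicit false
set_option maxRecDepth 20000

namespace Cfsg.Lib.CosetEnum.Fi23Fi22

theorem perm_30 : permOK tabP 10 31671 halfWords 300 9000 = true := by decide +kernel

theorem perm_31 : permOK tabP 10 31671 halfWords 300 9300 = true := by decide +kernel

theorem perm_32 : permOK tabP 10 31671 halfWords 300 9600 = true := by decide +kernel

theorem perm_33 : permOK tabP 10 31671 halfWords 300 9900 = true := by decide +kernel

theorem perm_34 : permOK tabP 10 31671 halfWords 300 10200 = true := by decide +kernel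

theorem perm_35 : permOK tabP 10 31671 halfWords 300 10500 = true := by decide +kernel

end Cfsg.Lib.CosetEnum.Fi23Fi22
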