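import Cfsg.Agent.Lib.CosetEnum.Fi23Fi22.Data

/-! Generated certificate. -/

set_option autoImplicit false
set_option maxRecDepth 20000

namespace Cfsg.Lib.CosetEnum.Fi23Fi22

theorem perm_48 : permOK tabP 10 31671 halfWords 300 14400 = true := by decide +kernel

theorem perm_49 : permOK tabP 10 31671 halfWords 300 14700 = true := by decide +kernel

theorem perm_50 : permOK tabP 10 31671 halfWords 300 15000 = true := by decide +kernel

theorem perm_51 : permOK tabP 10 31671 halfWords 300 15300 = true := by decide +kernel

theorem perm_52 : permOK tabP 10 31671 halfWords 300 15600 = true := by decide +kernel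

theorem perm_53 : permOK tabP 10 31671 halfWords 300 15900 = true := by decide +kernel

end Cfsg.Lib.CosetEnum.Fi23Fi22
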