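import Cfsg.Agent.Lib.CosetEnum.Fi23Fi22.DefsPart0
import Cfsg.Agent.Lib.CosetEnum.Fi23Fi22.DefsPart1
import Cfsg.Agent.Lib.CosetEnum.Fi23Fi22.DefsPart2
import Cfsg.Agent.Lib.CosetEnum.Fi23Fi22.StepsPart0
import Cfsg.Agent.Lib.CosetEnum.Fi23Fi22.StepsPart1
import Cfsg.Agent.Lib.CosetEnum.Fi23Fi22.StepsPart2
import Cfsg.Agent.Lib.CosetEnum.Fi23Fi22.StepsPart3
import Cfsg.Agent.Lib.CosetEnum.Fi23Fi22.StepsPart4
import Cfsg.Agent.Lib.CosetEnum.Fi23Fi22.StepsPart5
import Cfsg.Agent.Lib.CosetEnum.Fi23Fi22.StepsPart6
import Cfsg.Agent.Lib.CosetEnum.Fi23Fi22.StepsPart7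
import Cfsg.Agent.Lib.CosetEnum.Fi23Fi22.StepsPart8
import Cfsg.Agent.Lib.CosetEnum.Fi23Fi22.StepsPart9
import Cfsg.Agent.Lib.CosetEnum.Fi23Fi22.StepsPart10
import Cfsg.Agent.Lib.CosetEnum.Fi23Fi22.StepsPart11
import Cfsg.Agent.Lib.CosetEnum.Fi23Fi22.StepsPart12
import Cfsg.Agent.Lib.CosetEnum.Fi23Fi22.StepsPart13
import Cfsg.Agent.Lib.CosetEnum.Fi23Fi22.StepsPart14
import Cfsg.Agent.Lib.CosetEnum.Fi23Fi22.StepsPart15
import Cfsg.Agent.Lib.CosetEnum.Fi23Fi22.StepsPart16
import Cfsg.Agent.Lib.CosetEnum.Fi23Fi22.StepsPart17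
import Cfsg.Agent.Lib.CosetEnum.Fi23Fi22.StepsPart18
import Cfsg.Agent.Lib.CosetEnum.Fi23Fi22.StepsPart19
import Cfsg.Agent.Lib.CosetEnum.Fi23Fi22.StepsPart20
import Cfsg.Agent.Lib.CosetEnum.Fi23Fi22.StepsPart21
import Cfsg.Agent.Lib.CosetEnum.Fi23Fi22.StepsPart22
import Cfsg.Agent.Lib.CosetEnum.Fi23Fi22.StepsPart23
import Cfsg.Agent.Lib.CosetEnum.Fi23Fi22.StepsPart24
import Cfsg.Agent.Lib.CosetEnum.Fi23Fi22.StepsPart25
import Cfsg.Agent.Lib.CosetEnum.Fi23Fi22.StepsPart26
import Cfsg.Agent.Lib.CosetEnum.Fi23Fi22.StepsPart27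
import Cfsg.Agent.Lib.CosetEnum.Fi23Fi22.StepsPart28
import Cfsg.Agent.Lib.CosetEnum.Fi23Fi22.StepsPart29
import Cfsg.Agent.Lib.CosetEnum.Fi23Fi22.StepsPart30
import Cfsg.Agent.Lib.CosetEnum.Fi23Fi22.StepsPart31
import Cfsg.Agent.Lib.CosetEnum.Fi23Fi22.StepsPart32
import Cfsg.Agent.Lib.CosetEnum.Fi23Fi22.StepsPart33
import Cfsg.Agent.Lib.CosetEnum.Fi23Fi22.StepsPart34
import Cfsg.Agent.Lib.CosetEnum.Fi23Fi22.StepsPart35
import Cfsg.Agent.Lib.CosetEnum.Fi23Fi22.StepsPart36
import Cfsg.Agent.Lib.CosetEnum.Fi23Fi22.StepsPart37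
import Cfsg.Agent.Lib.CosetEnum.Fi23Fi22.StepsPart38
import Cfsg.Agent.Lib.CosetEnum.Fi23Fi22.StepsPart39
import Cfsg.Agent.Lib.CosetEnum.Fi23Fi22.StepsPart40
import Cfsg.Agent.Lib.CosetEnum.Fi23Fi22.StepsPart41
import Cfsg.Agent.Lib.CosetEnum.Fi23Fi22.StepsPart42
import Cfsg.Agent.Lib.CosetEnum.Fi23Fi22.StepsPart43
import Cfsg.Agent.Lib.CosetEnum.Fi23Fi22.StepsPart44
import Cfsg.Agent.Lib.CosetEnum.Fi23Fi22.StepsPart45
import Cfsg.Agent.Lib.CosetEnum.Fi23Fi22.StepsPart46
import Cfsg.Agent.Lib.CosetEnum.Fi23Fi22.StepsPart47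
import Cfsg.Agent.Lib.CosetEnum.Fi23Fi22.StepsPart48
import Cfsg.Agent.Lib.CosetEnum.Fi23Fi22.ClosedPart0
import Cfsg.Agent.Lib.CosetEnum.Fi23Fi22.ClosedPart1
import Cfsg.Agent.Lib.CosetEnum.Fi23Fi22.ClosedPart2
import Cfsg.Agent.Lib.CosetEnum.Fi23Fi22.PermPart0
import Cfsg.Agent.Lib.CosetEnum.Fi23Fi22.PermPart1
import Cfsg.Agent.Lib.CosetEnum.Fi23Fi22.PermPart2
import Cfsg.Agent.Lib.CosetEnum.Fi23Fi22.PermPart3
import Cfsg.Agent.Lib.CosetEnum.Fi23Fi22.PermPart4
import Cfsg.Agent.Lib.CosetEnum.Fi23Fi22.PermPart5
import Cfsg.Agent.Lib.CosetEnum.Fi23Fi22.PermPart6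
import Cfsg.Agent.Lib.CosetEnum.Fi23Fi22.PermPart7
import Cfsg.Agent.Lib.CosetEnum.Fi23Fi22.PermPart8
import Cfsg.Agent.Lib.CosetEnum.Fi23Fi22.PermPart9
import Cfsg.Agent.Lib.CosetEnum.Fi23Fi22.PermPart10
import Cfsg.Agent.Lib.CosetEnum.Fi23Fi22.PermPart11
import Cfsg.Agent.Lib.CosetEnum.Fi23Fi22.PermPart12
import Cfsg.Agent.Lib.CosetEnum.Fi23Fi22.PermPart13
import Cfsg.Agent.Lib.CosetEnum.Fi23Fi22.PermPart14
import Cfsg.Agent.Lib.CosetEnum.Fi23Fi22.PermPart15
import Cfsg.Agent.Lib.CosetEnum.Fi23Fi22.PermPart16
import Cfsg.Agent.Lib.CosetEnum.Fi23Fi22.PermPart17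

/-! Generated certificate. -/

set_option autoImplicit false
set_option maxRecDepth 20000

namespace Cfsg.Lib.CosetEnum.Fi23Fi22

theorem cert_valid : cert.Valid where
  valid :=
    { pos := by decide +kernel
      shifts := by decide +kernel
      defs := (defsOK_append (a := 16000) (b := 18432) (defsOK_append (a := 8000) (b := 8000) (defsOK_append (a := 4000) (b := 4000) defs_0 defs_1) (defsOK_append (a := 4000) (b := 4000) defs_2 defs_3)) (defsOK_append (a := 8000) (b := 10432) (defsOK_append (a := 4000) (b := 4000) defs_4 defs_5) (defsOK_append (a := 4000) (b := 6432) defs_6 (defsOK_append (a := 4000) (b := 2432) defs_7 defs_8))))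
      steps := (stepsOK_append (m := 73500) (n := 72783) (stepsOK_append (m := 36000) (n := 37500) (stepsOK_append (m := 18000) (n := 18000) (stepsOK_append (m := 9000) (n := 9000) (stepsOK_append (m := 4500) (n := 4500) (stepsOK_append (m := 1500) (n := 3000) steps_0 (stepsOK_append (m := 1500) (n := 1500) steps_1 steps_2)) (stepsOK_append (m := 1500) (n := 3000) steps_3 (stepsOK_append (m := 1500) (n := 1500) steps_4 steps_5))) (stepsOK_append (m := 4500) (n := 4500) (stepsOK_append (m := 1500) (n := 3000) steps_6 (stepsOK_append (m := 1500) (n := 1500) steps_7 steps_8)) (stepsOK_append (m := 1500) (n := 3000) steps_9 (stepsOK_append (m := 1500) (n := 1500) steps_10 steps_11)))) (stepsOK_append (m := 9000) (n := 9000) (stepsOK_append (m := 4500) (n := 4500) (stepsOK_append (m := 1500) (n := 3000) steps_12 (stepsOK_append (m := 1500) (n := 1500) steps_13 steps_14)) (stepsOK_append (m := 1500) (n := 3000) steps_15 (stepsOK_append (m := 1500) (n := 1500) steps_16 steps_17))) (stepsOK_append (m := 4500) (n := 4500) (stepsOK_append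 (m := 1500) (n := 3000) steps_18 (stepsOK_append (m := 1500) (n := 1500) steps_19 steps_20)) (stepsOK_append (m := 1500) (n := 3000) steps_21 (stepsOK_append (m := 1500) (n := 1500) steps_22 steps_23))))) (stepsOK_append (m := 18000) (n := 19500) (stepsOK_append (m := 9000) (n := 9000) (stepsOK_append (m := 4500) (n := 4500) (stepsOK_append (m := 1500) (n := 3000) steps_24 (stepsOK_append (m := 1500) (n := 1500) steps_25 steps_26)) (stepsOK_append (m := 1500) (n := 3000) steps_27 (stepsOK_append (m := 1500) (n := 1500) steps_28 steps_29))) (stepsOK_append (m := 4500) (n := 4500) (stepsOK_append (m := 1500) (n := 3000) steps_30 (stepsOK_append (m := 1500) (n := 1500) steps_31 steps_32)) (stepsOK_append (m := 1500) (n := 3000) steps_33 (stepsOK_append (m := 1500) (n := 1500) steps_34 steps_35)))) (stepsOK_append (m := 9000) (n := 10500) (stepsOK_append (m := 4500) (n := 4500) (stepsOK_append (m := 1500) (n := 3000) steps_36 (stepsOK_append (m := 1500) (n := 1500) steps_37 steps_38)) (stepsOK_append (m := 1500) (n := 3000) steps_39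 (stepsOK_append (m := 1500) (n := 1500) steps_40 steps_41))) (stepsOK_append (m := 4500) (n := 6000) (stepsOK_append (m := 1500) (n := 3000) steps_42 (stepsOK_append (m := 1500) (n := 1500) steps_43 steps_44)) (stepsOK_append (m := 3000) (n := 3000) (stepsOK_append (m := 1500) (n := 1500) steps_45 steps_46) (stepsOK_append (m := 1500) (n := 1500) steps_47 steps_48)))))) (stepsOK_append (m := 36000) (n := 36783) (stepsOK_append (m := 18000) (n := 18000) (stepsOK_append (m := 9000) (n := 9000) (stepsOK_append (m := 4500) (n := 4500) (stepsOK_append (m := 1500) (n := 3000) steps_49 (stepsOK_append (m := 1500) (n := 1500) steps_50 steps_51)) (stepsOK_append (m := 1500) (n := 3000) steps_52 (stepsOK_append (m := 1500) (n := 1500) steps_53 steps_54))) (stepsOK_append (m := 4500) (n := 4500) (stepsOK_append (m := 1500) (n := 3000) steps_55 (stepsOK_append (m := 1500) (n := 1500) steps_56 steps_57)) (stepsOK_append (m := 1500) (n := 3000) steps_58 (stepsOK_append (m := 1500) (n := 1500) steps_59 steps_60)))) (stepsOK_append (m :=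 9000) (n := 9000) (stepsOK_append (m := 4500) (n := 4500) (stepsOK_append (m := 1500) (n := 3000) steps_61 (stepsOK_append (m := 1500) (n := 1500) steps_62 steps_63)) (stepsOK_append (m := 1500) (n := 3000) steps_64 (stepsOK_append (m := 1500) (n := 1500) steps_65 steps_66))) (stepsOK_append (m := 4500) (n := 4500) (stepsOK_append (m := 1500) (n := 3000) steps_67 (stepsOK_append (m := 1500) (n := 1500) steps_68 steps_69)) (stepsOK_append (m := 1500) (n := 3000) steps_70 (stepsOK_append (m := 1500) (n := 1500) steps_71 steps_72))))) (stepsOK_append (m := 18000) (n := 18783) (stepsOK_append (m := 9000) (n := 9000) (stepsOK_append (m := 4500) (n := 4500) (stepsOK_append (m := 1500) (n := 3000) steps_73 (stepsOK_append (m := 1500) (n := 1500) steps_74 steps_75)) (stepsOK_append (m := 1500) (n := 3000) steps_76 (stepsOK_append (m := 1500) (n := 1500) steps_77 steps_78))) (stepsOK_append (m := 4500) (n := 4500) (stepsOK_append (m := 1500) (n := 3000) steps_79 (stepsOK_append (m := 1500) (n := 1500) steps_80 steps_81)) (stepsOK_append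 (m := 1500) (n := 3000) steps_82 (stepsOK_append (m := 1500) (n := 1500) steps_83 steps_84)))) (stepsOK_append (m := 9000) (n := 9783) (stepsOK_append (m := 4500) (n := 4500) (stepsOK_append (m := 1500) (n := 3000) steps_85 (stepsOK_append (m := 1500) (n := 1500) steps_86 steps_87)) (stepsOK_append (m := 1500) (n := 3000) steps_88 (stepsOK_append (m := 1500) (n := 1500) steps_89 steps_90))) (stepsOK_append (m := 4500) (n := 5283) (stepsOK_append (m := 1500) (n := 3000) steps_91 (stepsOK_append (m := 1500) (n := 1500) steps_92 steps_93)) (stepsOK_append (m := 3000) (n := 2283) (stepsOK_append (m := 1500) (n := 1500) steps_94 steps_95) (stepsOK_append (m := 1500) (n := 783) steps_96 steps_97)))))))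
      closed := (closedOK_append (a := 16000) (b := 15671) (closedOK_append (a := 8000) (b := 8000) (closedOK_append (a := 4000) (b := 4000) closed_0 closed_1) (closedOK_append (a := 4000) (b := 4000) closed_2 closed_3)) (closedOK_append (a := 8000) (b := 7671) (closedOK_append (a := 4000) (b := 4000) closed_4 closed_5) (closedOK_append (a := 4000) (b := 3671) closed_6 closed_7))) }
  pos := by decide +kernel
  halves := by decide +kernel
  perm := (permOK_append (a := 15900) (b := 15771) (permOK_append (a := 7800) (b := 8100) (permOK_append (a := 3900) (b := 3900) (permOK_append (a := 1800) (b := 2100) (permOK_append (a := 900) (b := 900) (permOK_append (a := 300) (b := 600) perm_0 (permOK_append (a := 300) (b := 300) perm_1 perm_2)) (permOK_append (a := 300) (b := 600) perm_3 (permOK_append (a := 300) (b := 300) perm_4 perm_5))) (permOK_append (a := 900) (b := 1200) (permOK_append (a := 300) (b := 600) perm_6 (permOK_append (a := 300) (b := 300) perm_7 perm_8)) (permOK_append (a := 600) (b := 600) (permOK_append (a := 300)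 (b := 300) perm_9 perm_10) (permOK_append (a := 300) (b := 300) perm_11 perm_12)))) (permOK_append (a := 1800) (b := 2100) (permOK_append (a := 900) (b := 900) (permOK_append (a := 300) (b := 600) perm_13 (permOK_append (a := 300) (b := 300) perm_14 perm_15)) (permOK_append (a := 300) (b := 600) perm_16 (permOK_append (a := 300) (b := 300) perm_17 perm_18))) (permOK_append (a := 900) (b := 1200) (permOK_append (a := 300) (b := 600) perm_19 (permOK_append (a := 300) (b := 300) perm_20 perm_21)) (permOK_append (a := 600) (b := 600) (permOK_append (a := 300) (b := 300) perm_22 perm_23) (permOK_append (a := 300) (b := 300) perm_24 perm_25))))) (permOK_append (a := 3900) (b := 4200) (permOK_append (a := 1800) (b := 2100) (permOK_append (a := 900) (b := 900) (permOK_append (a := 300) (b := 600) perm_26 (permOK_append (a := 300) (b := 300) perm_27 perm_28)) (permOK_append (a := 300) (b := 600) perm_29 (permOK_append (a := 300) (b := 300) perm_30 perm_31))) (permOK_append (a := 900) (b := 1200) (permOK_append (a := 300) (b := 600)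 perm_32 (permOK_append (a := 300) (b := 300) perm_33 perm_34)) (permOK_append (a := 600) (b := 600) (permOK_append (a := 300) (b := 300) perm_35 perm_36) (permOK_append (a := 300) (b := 300) perm_37 perm_38)))) (permOK_append (a := 2100) (b := 2100) (permOK_append (a := 900) (b := 1200) (permOK_append (a := 300) (b := 600) perm_39 (permOK_append (a := 300) (b := 300) perm_40 perm_41)) (permOK_append (a := 600) (b := 600) (permOK_append (a := 300) (b := 300) perm_42 perm_43) (permOK_append (a := 300) (b := 300) perm_44 perm_45))) (permOK_append (a := 900) (b := 1200) (permOK_append (a := 300) (b := 600) perm_46 (permOK_append (a := 300) (b := 300) perm_47 perm_48)) (permOK_append (a := 600) (b := 600) (permOK_append (a := 300) (b := 300) perm_49 perm_50) (permOK_append (a := 300) (b := 300) perm_51 perm_52)))))) (permOK_append (a := 7800) (b := 7971) (permOK_append (a := 3900) (b := 3900) (permOK_append (a := 1800) (b := 2100) (permOK_append (a := 900) (b := 900) (permOK_append (a := 300) (b := 600) perm_53 (permOK_append (a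 := 300) (b := 300) perm_54 perm_55)) (permOK_append (a := 300) (b := 600) perm_56 (permOK_append (a := 300) (b := 300) perm_57 perm_58))) (permOK_append (a := 900) (b := 1200) (permOK_append (a := 300) (b := 600) perm_59 (permOK_append (a := 300) (b := 300) perm_60 perm_61)) (permOK_append (a := 600) (b := 600) (permOK_append (a := 300) (b := 300) perm_62 perm_63) (permOK_append (a := 300) (b := 300) perm_64 perm_65)))) (permOK_append (a := 1800) (b := 2100) (permOK_append (a := 900) (b := 900) (permOK_append (a := 300) (b := 600) perm_66 (permOK_append (a := 300) (b := 300) perm_67 perm_68)) (permOK_append (a := 300) (b := 600) perm_69 (permOK_append (a := 300) (b := 300) perm_70 perm_71))) (permOK_append (a := 900) (b := 1200) (permOK_append (a := 300) (b := 600) perm_72 (permOK_append (a := 300) (b := 300) perm_73 perm_74)) (permOK_append (a := 600) (b := 600) (permOK_append (a := 300) (b := 300) perm_75 perm_76) (permOK_append (a := 300) (b := 300) perm_77 perm_78))))) (permOK_append (a := 3900) (b := 4071) (permOK_append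 (a := 1800) (b := 2100) (permOK_append (a := 900) (b := 900) (permOK_append (a := 300) (b := 600) perm_79 (permOK_append (a := 300) (b := 300) perm_80 perm_81)) (permOK_append (a := 300) (b := 600) perm_82 (permOK_append (a := 300) (b := 300) perm_83 perm_84))) (permOK_append (a := 900) (b := 1200) (permOK_append (a := 300) (b := 600) perm_85 (permOK_append (a := 300) (b := 300) perm_86 perm_87)) (permOK_append (a := 600) (b := 600) (permOK_append (a := 300) (b := 300) perm_88 perm_89) (permOK_append (a := 300) (b := 300) perm_90 perm_91)))) (permOK_append (a := 2100) (b := 1971) (permOK_append (a := 900) (b := 1200) (permOK_append (a := 300) (b := 600) perm_92 (permOK_append (a := 300) (b := 300) perm_93 perm_94)) (permOK_append (a := 600) (b := 600) (permOK_append (a := 300) (b := 300) perm_95 perm_96) (permOK_append (a := 300) (b := 300) perm_97 perm_98))) (permOK_append (a := 900) (b := 1071) (permOK_append (a := 300) (b := 600) perm_99 (permOK_append (a := 300) (b := 300) perm_100 perm_101)) (permOK_append (a := 600)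 (b := 471) (permOK_append (a := 300) (b := 300) perm_102 perm_103) (permOK_append (a := 300) (b := 171) perm_104 perm_105)))))))
  tree := by decide +kernel
  fix := by decide +kernel

theorem orb0_ok : orbitOK tabP orb0 pos0 10 31671 3510 subWords 3510 0 = true := by
  decide +kernel

theorem orb1_ok : orbitOK tabP orb1 pos1 10 31671 28160 subWords 28160 0 = true := by
  decide +kernel

end Cfsg.Lib.CosetEnum.Fi23Fi22
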